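import Groth.Prelude.Def_AlphaPn
import Mathlib.RingTheory.Nilpotent.Basic
import Mathlib.Algebra.CharP.Invertible
import Mathlib.Data.Nat.Prime.Factorial
import Mathlib.Algebra.Polynomial.Derivative

/-!
# The logarithmic differential equation on `R[x]/(x^p)` and split cocycles
-/

set_option autoImplicit false
set_option linter.all false
set_option synthInstance.maxHeartbeats 200000

universe u

open Polynomial

noncomputable section

namespace GrothLib.AlphaExt6

variable (p : ℕ) [hp : Fact p.Prime] {S : Type u} [CommRing S] [CharP S p]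

/-- The truncated polynomial ring. -/
abbrev A1 (p : ℕ) (S : Type u) [CommRing S] : Type u := AlphaPn.A p 1 S

local notation "mk'" => AlphaPn.mk p 1 S

omit hp [CharP S p] in
theorem mk_eq_zero_iff (P : S[X]) : mk' P = 0 ↔ ∀ k < p, P.coeff k = 0 := by
  rw [← X_pow_dvd_iff]
  conv_rhs => rw [← pow_one p]
  exact AdjoinRoot.mk_eq_zero

omit hp in
theorem mk_derivative_eq (P Q : S[X]) (h : mk' P = mk' Q) : mk' (derivative P) = mk' (derivative Q) := by
  rw [← sub_eq_zero, ← map_sub, mk_eq_zero_iff] at h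
  rw [← sub_eq_zero, ← map_sub, ← derivative_sub, mk_eq_zero_iff]
  intro k hk
  rw [coeff_derivative]
  rcases Nat.lt_or_ge (k + 1) p with hk' | hk'
  · rw [h (k + 1) hk', zero_mul]
  · have e : k + 1 = p := by omega
    have : ((k : S) + 1) = 0 := by
      rw [← Nat.cast_one (R := S), ← Nat.cast_add, e, CharP.cast_eq_zero]
    rw [this, mul_zero]

/-- Differentiation with respect to the coordinate. -/
def D (u : A1 p S) : A1 p S := mk' (derivative (Function.surjInv (AlphaPn.mk_surjective p 1 S) u))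

omit hp in
theorem D_mk (P : S[X]) : D p (mk' P) = mk' (derivative P) :=
  mk_derivative_eq p _ _ (Function.surjInv_eq (AlphaPn.mk_surjective p 1 S) _)

omit hp in
theorem D_add (u v : A1 p S) : D p (u + v) = D p u + D p v := by
  obtain ⟨P, rfl⟩ := AlphaPn.mk_surjective p 1 S u
  obtain ⟨Q, rfl⟩ := AlphaPn.mk_surjective p 1 S v
  rw [← map_add, D_mk, D_mk, D_mk, derivative_add, map_add]

omit hp in
theorem D_mul (u v : A1 p S) : D p (u * v) = D p u * v + u * D p v := by
  obtain ⟨P, rfl⟩ := AlphaPn.mk_surjective p 1 S u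
  obtain ⟨Q, rfl⟩ := AlphaPn.mk_surjective p 1 S v
  rw [← map_mul, D_mk, D_mk, D_mk, derivative_mul, map_add, map_mul, map_mul]

/-- The value at the origin. -/
abbrev eps (p : ℕ) [Fact p.Prime] {S : Type u} [CommRing S] : A1 p S →ₐ[S] S :=
  AlphaPn.lift p 1 S 0 (zero_pow (pow_ne_zero 1 (Fact.out : p.Prime).ne_zero))

omit [CharP S p] in
theorem eps_mk (P : S[X]) : eps p (mk' P) = P.coeff 0 := by
  rw [← AlphaPn.aeval_x, ← aeval_algHom_apply, AlphaPn.lift_x, coeff_zero_eq_aeval_zero]

omit [CharP S p] in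
theorem exists_eq_C_add_X_mul (u : A1 p S) :
    ∃ r, u = algebraMap S (A1 p S) (eps p u) + AlphaPn.x p 1 S * r := by
  obtain ⟨P, rfl⟩ := AlphaPn.mk_surjective p 1 S u
  refine ⟨mk' P.divX, ?_⟩
  conv_lhs => rw [← X_mul_divX_add P]
  rw [map_add, map_mul, AlphaPn.mk_X, eps_mk, add_comm, ← AlgHom.commutes mk' (P.coeff 0)]
  rfl

omit [CharP S p] in
theorem x_pow_mul_top (v : A1 p S) :
    AlphaPn.x p 1 S ^ (p - 1) * v = AlphaPn.x p 1 S ^ (p - 1) * algebraMap S (A1 p S) (eps p v) := by
  obtain ⟨r, hr⟩ := exists_eq_C_add_X_mul p v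
  conv_lhs => rw [hr]
  rw [mul_add, ← mul_assoc, ← pow_succ, Nat.sub_add_cancel hp.out.pos,
    show AlphaPn.x p 1 S ^ p = 0 from by simpa using AlphaPn.x_pow p 1 S, zero_mul, add_zero]

omit hp in
theorem D_algebraMap (s : S) : D p (algebraMap S (A1 p S) s) = 0 := by
  rw [← AlgHom.commutes mk' s, D_mk, ← Polynomial.C_eq_algebraMap, derivative_C, map_zero]

omit hp in
theorem D_x : D p (AlphaPn.x p 1 S) = 1 := by
  rw [← AlphaPn.mk_X, D_mk, derivative_X, map_one]

omit hp in
theorem D_one : D p (1 : A1 p S) = 0 := by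
  rw [← map_one (algebraMap S (A1 p S)), D_algebraMap]

omit hp in
theorem D_x_pow (k : ℕ) : D p (AlphaPn.x p 1 S ^ (k + 1)) = ((k + 1 : ℕ) : A1 p S) * AlphaPn.x p 1 S ^ k := by
  induction k with
  | zero => simp [D_x]
  | succ k ih =>
    rw [pow_succ, D_mul, ih, D_x]
    push_cast
    ring

omit hp in
theorem isUnit_natCast {k : ℕ} (h0 : k ≠ 0) (h : k < p) (hp' : p.Prime) : IsUnit (k : S) :=
  (CharP.isUnit_natCast_iff hp').2 fun hd => absurd (Nat.le_of_dvd (Nat.pos_of_ne_zero h0) hd) (by omega)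

/-- Solutions of the differential equation up to the top degree. -/
theorem exists_sol_upto (g : A1 p S) : ∀ k, k ≤ p - 1 → ∃ f r, eps p f = 1 ∧
    D p f - g * f = AlphaPn.x p 1 S ^ k * r := by
  intro k
  induction k with
  | zero =>
    intro _
    exact ⟨1, -g, map_one _, by rw [D_one]; ring⟩
  | succ k ih =>
    intro hk
    obtain ⟨f, r, hf, hr⟩ := ih (by omega)
    obtain ⟨r', hr'⟩ := exists_eq_C_add_X_mul p r
    have hu : IsUnit ((k + 1 : ℕ) : S) := isUnit_natCast p (Nat.succ_ne_zero k) (by omega) hp.out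
    let c : A1 p S := algebraMap S (A1 p S) (↑hu.unit⁻¹ * eps p r)
    have hc : ((k + 1 : ℕ) : A1 p S) * c = algebraMap S (A1 p S) (eps p r) := by
      rw [← map_natCast (algebraMap S (A1 p S)), ← map_mul, ← mul_assoc, hu.mul_val_inv, one_mul]
    refine ⟨f - c * AlphaPn.x p 1 S ^ (k + 1), r' + g * c, ?_, ?_⟩
    · rw [map_sub, hf, map_mul, map_pow, AlphaPn.lift_x, zero_pow (Nat.succ_ne_zero k), mul_zero, sub_zero]
    · have hd : D p (f - c * AlphaPn.x p 1 S ^ (k + 1)) = D p f - algebraMap S (A1 p S) (eps p r) * AlphaPn.x p 1 S ^ k := by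
        have e := D_add p (f - c * AlphaPn.x p 1 S ^ (k + 1)) (c * AlphaPn.x p 1 S ^ (k + 1))
        rw [sub_add_cancel, D_mul, D_algebraMap, D_x_pow, zero_mul, zero_add, ← mul_assoc, mul_comm c ((k + 1 : ℕ) : A1 p S), hc] at e
        rw [e, add_sub_cancel_right]
      rw [hd, pow_succ]
      linear_combination hr + AlphaPn.x p 1 S ^ k * hr'

/-- The logarithmic equation can be solved after shifting by a constant. -/
theorem exists_sol (hF : Function.Surjective (frobenius S p)) (g : A1 p S) :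
    ∃ (a : S) (f : A1 p S), eps p f = 1 ∧ D p f = (g + algebraMap S (A1 p S) a) * f := by
  have hp' := hp.out
  obtain ⟨f₀, r, hf₀, hr⟩ := exists_sol_upto p g (p - 1) le_rfl
  rw [x_pow_mul_top] at hr
  have hw : IsUnit ((p - 1).factorial : S) := (CharP.isUnit_natCast_iff hp').2
    fun hd => absurd ((Nat.Prime.dvd_factorial hp').1 hd) (by have := hp'.pos; omega)
  obtain ⟨a, ha⟩ := hF ((p - 1).factorial * eps p r)
  rw [frobenius_def] at ha
  let e : ℕ → A1 p S := fun m => ∑ k ∈ Finset.range (m + 1),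
    algebraMap S (A1 p S) (Ring.inverse (k.factorial : S) * a ^ k) * AlphaPn.x p 1 S ^ k
  have he : ∀ m, m < p → eps p (e m) = 1 ∧ D p (e m) - algebraMap S (A1 p S) a * e m =
      -(algebraMap S (A1 p S) (Ring.inverse (m.factorial : S) * a ^ (m + 1)) * AlphaPn.x p 1 S ^ m) := by
    intro m
    induction m with
    | zero =>
      intro _
      refine ⟨by simp [e], ?_⟩
      simp [e, D_one]
    | succ m ih =>
      intro hm
      obtain ⟨h1, h2⟩ := ih (by omega)
      have es : e (m + 1) = e m +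
          algebraMap S (A1 p S) (Ring.inverse ((m + 1).factorial : S) * a ^ (m + 1)) * AlphaPn.x p 1 S ^ (m + 1) :=
        Finset.sum_range_succ _ _
      have hu : IsUnit ((m + 1 : ℕ) : S) := isUnit_natCast p (Nat.succ_ne_zero m) hm hp'
      have hi : ((m + 1 : ℕ) : S) * Ring.inverse ((m + 1).factorial : S) = Ring.inverse (m.factorial : S) := by
        rw [Nat.factorial_succ, Nat.cast_mul, Ring.mul_inverse_rev, mul_left_comm, Ring.mul_inverse_cancel _ hu, mul_one]
      refine ⟨?_, ?_⟩
      · rw [es, map_add, h1, map_mul, map_pow, AlphaPn.lift_x, zero_pow (Nat.succ_ne_zero m), mul_zero, add_zero]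
      · rw [es, D_add, D_mul, D_algebraMap, D_x_pow, zero_mul, zero_add]
        have h3 : algebraMap S (A1 p S) (Ring.inverse (m.factorial : S) * a ^ (m + 1)) =
            algebraMap S (A1 p S) (Ring.inverse ((m + 1).factorial : S) * a ^ (m + 1)) * ((m + 1 : ℕ) : A1 p S) := by
          rw [← map_natCast (algebraMap S (A1 p S)), ← map_mul, ← hi]
          congr 1
          ring
        rw [h3] at h2
        simp only [map_mul, map_pow] at h2 ⊢
        linear_combination h2
  obtain ⟨he1, he2⟩ := he (p - 1) (by have := hp'.pos; omega)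
  rw [Nat.sub_add_cancel hp'.pos, ha, ← mul_assoc, Ring.inverse_mul_cancel _ hw, one_mul] at he2
  refine ⟨a, f₀ * e (p - 1), by rw [map_mul, hf₀, he1, one_mul], ?_⟩
  have t1 := x_pow_mul_top p f₀
  have t2 := x_pow_mul_top p (e (p - 1))
  rw [hf₀, map_one] at t1
  rw [he1, map_one] at t2
  rw [D_mul]
  linear_combination (e (p - 1)) * hr + f₀ * he2 + algebraMap S (A1 p S) (eps p r) * t2 -
    algebraMap S (A1 p S) (eps p r) * t1

/-- A solution vanishing at the origin is zero. -/
theorem sol_eq_zero (g u : A1 p S) (h0 : eps p u = 0) (h : D p u = g * u) : u = 0 := by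
  suffices ∀ k, k ≤ p → ∃ r, u = AlphaPn.x p 1 S ^ k * r by
    obtain ⟨r, rfl⟩ := this p le_rfl
    rw [show AlphaPn.x p 1 S ^ p = 0 from by simpa using AlphaPn.x_pow p 1 S, zero_mul]
  intro k
  induction k with
  | zero => exact fun _ => ⟨u, by simp⟩
  | succ k ih =>
    intro hk
    rcases Nat.eq_zero_or_pos k with rfl | hk0
    · obtain ⟨r, hr⟩ := exists_eq_C_add_X_mul p u
      exact ⟨r, by rw [hr, h0, map_zero, zero_add, pow_one]⟩
    obtain ⟨j, rfl⟩ : ∃ j, k = j + 1 := ⟨k - 1, by omega⟩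
    obtain ⟨r, rfl⟩ := ih (by omega)
    obtain ⟨r', hr'⟩ := exists_eq_C_add_X_mul p r
    rw [D_mul, D_x_pow] at h
    set c := eps p r
    have h1 : AlphaPn.x p 1 S ^ j * algebraMap S (A1 p S) (((j + 1 : ℕ) : S) * c) =
        AlphaPn.x p 1 S ^ (j + 1) * (g * r - D p r - ((j + 1 : ℕ) : A1 p S) * r') := by
      rw [map_mul, map_natCast, pow_succ]
      linear_combination h - ((j + 1 : ℕ) : A1 p S) * AlphaPn.x p 1 S ^ j * hr'
    obtain ⟨Q, hQ⟩ := AlphaPn.mk_surjective p 1 S (g * r - D p r - ((j + 1 : ℕ) : A1 p S) * r')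
    have h2 : mk' (C (((j + 1 : ℕ) : S) * c) * X ^ j - X ^ (j + 1) * Q) = 0 := by
      rw [Polynomial.C_eq_algebraMap, map_sub (mk'), map_mul (mk') (algebraMap S S[X] _), map_mul (mk') (X ^ (j + 1)),
        map_pow (mk'), map_pow (mk'), AlphaPn.mk_X, hQ, AlgHom.commutes]
      linear_combination h1
    have h3 := (mk_eq_zero_iff p _).1 h2 j (by omega)
    rw [coeff_sub, coeff_C_mul_X_pow, if_pos rfl, coeff_X_pow_mul', if_neg (by omega), sub_zero] at h3
    have hc : c = 0 := (isUnit_natCast (S := S) p (Nat.succ_ne_zero j) (by omega) hp.out).mul_right_eq_zero.1 h3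
    exact ⟨r', by rw [hr', hc, map_zero, zero_add, ← mul_assoc, ← pow_succ]⟩

omit hp in
/-- Chain rule for substitutions with constant coefficients. -/
theorem D_eval₂ {A : Type u} [CommRing A] (φ : A →+* S) (b : A1 p S) (P : A[X]) :
    D p (P.eval₂ ((algebraMap S (A1 p S)).comp φ) b) =
      (derivative P).eval₂ ((algebraMap S (A1 p S)).comp φ) b * D p b := by
  induction P using Polynomial.induction_on' with
  | add P Q hP hQ => rw [eval₂_add, D_add, hP, hQ, derivative_add, eval₂_add, add_mul]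
  | monomial k s =>
    rw [eval₂_monomial, derivative_monomial, eval₂_monomial, D_mul, RingHom.comp_apply, D_algebraMap, zero_mul,
      zero_add, map_mul, map_natCast, RingHom.comp_apply]
    rcases k with _ | k
    · rw [pow_zero, D_one]; simp
    · have : D p (b ^ (k + 1)) = ((k + 1 : ℕ) : A1 p S) * b ^ k * D p b := by
        induction k with
        | zero => simp
        | succ k ih => rw [pow_succ, D_mul, ih]; push_cast; ring
      rw [this, Nat.add_sub_cancel]
      ring

end GrothLib.AlphaExt6
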