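import Groth.Prelude.Def_AlphaPn
import Groth.Prelude.Def_CGrpSh
import Mathlib.AlgebraicGeometry.Group.Affine

/-!
# Points of the kernels of iterated Frobenius
-/

set_option autoImplicit false
set_option backward.isDefEq.respectTransparency false
set_option backward.isDefEq.respectTransparency.types false
set_option linter.all false
set_option maxHeartbeats 400000
set_option synthInstance.maxHeartbeats 200000

universe u

open CategoryTheory AlgebraicGeometry MonoidalCategory CartesianMonoidalCategory MonObj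
open scoped TensorProduct

noncomputable section

namespace GrothLib.AlphaExt6

variable {R : Type u} [CommRing R]

local notation "X₀" => Spec (CommRingCat.of R)

/-- The structure map of the functions of an object. -/
def base (T : Over X₀) : R →+* Γ(T.left, ⊤) :=
  ((Scheme.ΓSpecIso (CommRingCat.of R)).inv ≫ T.hom.appTop).hom

theorem base_comp {T T' : Over X₀} (g : T' ⟶ T) (r : R) : g.left.appTop (base T r) = base T' r := by
  unfold base
  rw [← Over.w g, Scheme.Hom.comp_appTop]
  rfl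

/-- The spectrum of an algebra. -/
abbrev SpA (B : Type u) [CommRing B] [Algebra R B] : Over X₀ := (Spec (CommRingCat.of B)).asOver X₀

/-- The functions of the spectrum of an algebra. -/
def toSp (B : Type u) [CommRing B] [Algebra R B] : B →+* Γ((SpA (R := R) B).left, ⊤) :=
  (Scheme.ΓSpecIso (CommRingCat.of B)).inv.hom

theorem toSp_bijective (B : Type u) [CommRing B] [Algebra R B] : Function.Bijective (toSp (R := R) B) :=
  ConcreteCategory.bijective_of_isIso (Scheme.ΓSpecIso (CommRingCat.of B)).inv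

theorem toSp_algebraMap (B : Type u) [CommRing B] [Algebra R B] (r : R) :
    toSp (R := R) B (algebraMap R B r) = base (SpA (R := R) B) r :=
  ConcreteCategory.congr_hom (Scheme.ΓSpecIso_inv_naturality (CommRingCat.ofHom (algebraMap R B))) r

/-- The ring map of a point. -/
def fnHom {B : Type u} [CommRing B] [Algebra R B] {T : Over X₀} (x : T ⟶ SpA (R := R) B) : B →+* Γ(T.left, ⊤) :=
  x.left.appTop.hom.comp (toSp B)

theorem fnHom_algebraMap {B : Type u} [CommRing B] [Algebra R B] {T : Over X₀} (x : T ⟶ SpA (R := R) B) (r : R) :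
    fnHom x (algebraMap R B r) = base T r :=
  (congrArg x.left.appTop (toSp_algebraMap B r)).trans (base_comp x r)

theorem fnHom_comp {B : Type u} [CommRing B] [Algebra R B] {T T' : Over X₀} (g : T' ⟶ T) (x : T ⟶ SpA (R := R) B)
    (b : B) : fnHom (g ≫ x) b = g.left.appTop (fnHom x b) := by
  simp only [fnHom, Over.comp_left, Scheme.Hom.comp_appTop]
  rfl

theorem fnHom_injective {B : Type u} [CommRing B] [Algebra R B] {T : Over X₀} {x y : T ⟶ SpA (R := R) B}
    (h : fnHom x = fnHom y) : x = y := by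
  haveI : IsAffine (SpA (R := R) B).left := inferInstanceAs (IsAffine (Spec (CommRingCat.of B)))
  refine Over.OverMorphism.ext (ext_of_isAffine ?_)
  refine CommRingCat.hom_ext (RingHom.ext fun z => ?_)
  obtain ⟨b, rfl⟩ := (toSp_bijective (R := R) B).2 z
  exact RingHom.congr_fun h b

/-- The point of a ring map. -/
def mor {B : Type u} [CommRing B] [Algebra R B] (T : Over X₀) (θ : B →+* Γ(T.left, ⊤))
    (h : ∀ r, θ (algebraMap R B r) = base T r) : T ⟶ SpA (R := R) B :=
  Over.homMk (T.left.toSpecΓ ≫ Spec.map (CommRingCat.ofHom θ)) (by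
    show (T.left.toSpecΓ ≫ Spec.map (CommRingCat.ofHom θ)) ≫ Spec.map (CommRingCat.ofHom (algebraMap R B)) = T.hom
    rw [Category.assoc, ← Spec.map_comp, ← CommRingCat.ofHom_comp, show θ.comp (algebraMap R B) = base T from
      RingHom.ext h, base, CommRingCat.ofHom_hom, Spec.map_comp, ← Scheme.toSpecΓ_naturality_assoc]
    refine (congrArg (T.hom ≫ ·) ?_).trans (Category.comp_id _)
    rw [← SpecMap_ΓSpecIso_hom, ← Spec.map_comp, Iso.inv_hom_id, Spec.map_id])

theorem fnHom_mor {B : Type u} [CommRing B] [Algebra R B] (T : Over X₀) (θ : B →+* Γ(T.left, ⊤))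
    (h : ∀ r, θ (algebraMap R B r) = base T r) (b : B) : fnHom (mor T θ h) b = θ b := by
  show (T.left.toSpecΓ ≫ Spec.map (CommRingCat.ofHom θ)).appTop ((Scheme.ΓSpecIso (CommRingCat.of B)).inv b) = _
  rw [Scheme.Hom.comp_appTop, Scheme.toSpecΓ_appTop, CommRingCat.comp_apply]
  refine Eq.trans (congrArg (Scheme.ΓSpecIso Γ(T.left, ⊤)).hom
    (ConcreteCategory.congr_hom (Scheme.ΓSpecIso_inv_naturality (CommRingCat.ofHom θ)) b).symm) ?_
  exact ConcreteCategory.congr_hom (Scheme.ΓSpecIso Γ(T.left, ⊤)).inv_hom_id (θ b)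

variable {p : ℕ} [Fact p.Prime] [CharP R p] {n : ℕ}

/-- The group scheme `α_{p^n}`. -/
abbrev Gn (p n : ℕ) (R : Type u) [CommRing R] : Over (Spec (CommRingCat.of R)) := SpA (R := R) (AlphaPn.A p n R)

/-- The function of a point. -/
def fn {T : Over X₀} (x : T ⟶ Gn p n R) : Γ(T.left, ⊤) := fnHom x (AlphaPn.x p n R)

theorem fn_comp {T T' : Over X₀} (g : T' ⟶ T) (x : T ⟶ Gn p n R) : fn (g ≫ x) = g.left.appTop (fn x) :=
  fnHom_comp g x _

theorem fn_pow {T : Over X₀} (x : T ⟶ Gn p n R) : fn x ^ p ^ n = 0 := by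
  rw [fn, ← map_pow, AlphaPn.x_pow, map_zero]

theorem fn_injective {T : Over X₀} {x y : T ⟶ Gn p n R} (h : fn x = fn y) : x = y := by
  refine fnHom_injective (RingHom.ext fun b => ?_)
  obtain ⟨P, rfl⟩ := AlphaPn.mk_surjective p n R b
  refine congrFun (congrArg DFunLike.coe (Polynomial.ringHom_ext
    (f := (fnHom x).comp (AlphaPn.mk p n R).toRingHom) (g := (fnHom y).comp (AlphaPn.mk p n R).toRingHom)
    (fun r => ?_) ?_)) P
  · show fnHom x (AlphaPn.mk p n R (Polynomial.C r)) = fnHom y (AlphaPn.mk p n R (Polynomial.C r))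
    rw [Polynomial.C_eq_algebraMap, AlgHom.commutes, fnHom_algebraMap, fnHom_algebraMap]
  · exact h

theorem exists_pt {T : Over X₀} (a : Γ(T.left, ⊤)) (ha : a ^ p ^ n = 0) : ∃ x : T ⟶ Gn p n R, fn x = a := by
  letI : Algebra R Γ(T.left, ⊤) := (base T).toAlgebra
  exact ⟨mor T (AlphaPn.lift p n R a ha).toRingHom (fun r => AlgHom.commutes _ r),
    (fnHom_mor _ _ _ _).trans (AlphaPn.lift_x a ha)⟩

theorem fn_mul {T : Over X₀} (x y : T ⟶ Gn p n R) : fn (x * y) = fn x + fn y := by
  let A := AlphaPn.A p n R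
  let l : A →ₐ[R] A ⊗[R] A := Algebra.TensorProduct.includeLeft
  let r : A →ₐ[R] A ⊗[R] A := Algebra.TensorProduct.includeRight
  let P : WithConv (A →ₐ[R] A ⊗[R] A) → (SpA (R := R) (A ⊗[R] A) ⟶ Gn p n R) := Spec.mapMulEquiv
  have hP : ∀ (φ : WithConv (A →ₐ[R] A ⊗[R] A)) (b : A), fnHom (P φ) b = toSp (A ⊗[R] A) (φ.ofConv b) := fun φ b =>
    (ConcreteCategory.congr_hom (Scheme.ΓSpecIso_inv_naturality (CommRingCat.ofHom φ.ofConv.toRingHom)) b).symm
  letI : Algebra R Γ(T.left, ⊤) := (base T).toAlgebra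
  let θx : A →ₐ[R] Γ(T.left, ⊤) := { fnHom x with commutes' := fnHom_algebraMap x }
  let θy : A →ₐ[R] Γ(T.left, ⊤) := { fnHom y with commutes' := fnHom_algebraMap y }
  let θ : A ⊗[R] A →ₐ[R] Γ(T.left, ⊤) := Algebra.TensorProduct.lift θx θy fun _ _ => Commute.all _ _
  let t : T ⟶ SpA (R := R) (A ⊗[R] A) := mor T θ.toRingHom fun r => AlgHom.commutes _ r
  have ht : ∀ z, fnHom t z = θ z := fun z => fnHom_mor _ _ _ z
  have key : ∀ (φ : WithConv (A →ₐ[R] A ⊗[R] A)) (b : A), fnHom (t ≫ P φ) b = θ (φ.ofConv b) := fun φ b => by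
    rw [fnHom_comp, hP]; exact ht _
  have hx : t ≫ P (WithConv.toConv l) = x := fn_injective (by
    refine (key _ _).trans ?_
    show θ (AlphaPn.x p n R ⊗ₜ[R] 1) = _
    rw [Algebra.TensorProduct.lift_tmul, map_one, _root_.mul_one]
    rfl)
  have hy : t ≫ P (WithConv.toConv r) = y := fn_injective (by
    refine (key _ _).trans ?_
    show θ (1 ⊗ₜ[R] AlphaPn.x p n R) = _
    rw [Algebra.TensorProduct.lift_tmul, map_one, _root_.one_mul]
    rfl)
  rw [← hx, ← hy, ← MonObj.comp_mul, ← map_mul Spec.mapMulEquiv]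
  refine (key _ _).trans ?_
  rw [AlgHom.convMul_apply, AlphaPn.comul_x, hx, hy]
  simp only [map_add, Algebra.TensorProduct.map_tmul, Algebra.TensorProduct.lmul'_apply_tmul, l, r,
    map_one, _root_.mul_one, _root_.one_mul]
  simp [θ, θx, θy, fn, Algebra.TensorProduct.includeLeft_apply, Algebra.TensorProduct.includeRight_apply]
  rfl

theorem fn_one {T : Over X₀} : fn (1 : T ⟶ Gn p n R) = 0 := by
  have h := fn_mul (1 : T ⟶ Gn p n R) 1
  rwa [_root_.mul_one, left_eq_add] at h

end GrothLib.AlphaExt6
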