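import Groth.Agent.Lib.AlphaExt6.Sub
import Groth.Agent.Lib.AlphaExt6.Pts
import Groth.Agent.Lib.FppfH90Sch6.Main
import Groth.Agent.Lib.GaPic6.Main

/-!
# Extensions of `α_p` by the multiplicative group split
-/

set_option autoImplicit false
set_option backward.isDefEq.respectTransparency false
set_option backward.isDefEq.respectTransparency.types false
set_option linter.all false
set_option maxHeartbeats 1000000
set_option synthInstance.maxHeartbeats 200000

universe u

open CategoryTheory CategoryTheory.Limits AlgebraicGeometry Opposite MonoidalCategory CartesianMonoidalCategory MonObj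
open GrothLib.GaDualQ13 (GmSh gmSec gmVal gmVal_gmSec gmVal_injective gmVal_map gmVal_add gmVal_zero isUnit_gmVal)

noncomputable section

namespace GrothLib.AlphaExt6

local notation "fppf" => Scheme.fppfPrecoverage

variable (p : ℕ) [Fact p.Prime] (R : Type u) [CommRing R] [CharP R p]

theorem fnHom_eq_sub {T : Over (Spec (CommRingCat.of R))} (x : T ⟶ Gn p 1 R) :
    fnHom x = sub p (base T) (fn x) (by have := fn_pow x; rwa [pow_one] at this) :=
  hom_ext p (fun r => (fnHom_algebraMap x r).trans (sub_algebraMap _ _ _ _ _).symm) (sub_x _ _ _ _).symm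

/-- The origin of `α_p`. -/
def zeroPt : SpA (R := R) R ⟶ Gn p 1 R :=
  (Spec.map (CommRingCat.ofHom (eps p (S := R)).toRingHom)).asOver _

theorem triv_of_zeroPt (c : GrothLib.Ample.Cocycle (Gn p 1 R).left)
    (h : GrothLib.Cube.Triv (c.comap (zeroPt p R).left)) : GrothLib.Cube.Triv c := by
  let z : Spec (CommRingCat.of R) ⟶ Spec (CommRingCat.of (AlphaPn.A p 1 R)) :=
    Spec.map (CommRingCat.ofHom (eps p (S := R)).toRingHom)
  haveI : IsClosedImmersion z := IsClosedImmersion.spec_of_surjective _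
    (fun r => ⟨algebraMap R _ r, AlgHom.commutes _ r⟩)
  haveI : Surjective z := ⟨fun q => ⟨⟨q.asIdeal.comap (algebraMap R (AlphaPn.A p 1 R)), inferInstance⟩,
    PrimeSpectrum.ext (Ideal.ext fun a => by
      show eps p a ∈ q.asIdeal.comap (algebraMap R (AlphaPn.A p 1 R)) ↔ a ∈ q.asIdeal
      rw [Ideal.mem_comap]
      obtain ⟨r, hr⟩ := exists_eq_C_add_X_mul p a
      have hn : AlphaPn.x p 1 R * r ∈ q.asIdeal :=
        q.asIdeal.mul_mem_right _ (q.isPrime.mem_of_pow_mem p (by rw [x_pow_p]; exact zero_mem _))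
      conv_rhs => rw [hr]
      exact (Ideal.add_mem_iff_left _ hn).symm)⟩⟩
  haveI : IsAffine (Gn p 1 R).left := inferInstanceAs (IsAffine (Spec (CommRingCat.of (AlphaPn.A p 1 R))))
  haveI : IsClosedImmersion (zeroPt p R).left := ‹IsClosedImmersion z›
  haveI : Surjective (zeroPt p R).left := ‹Surjective z›
  obtain ⟨e⟩ := c.nonempty_pullback_iso (zeroPt p R).left (n := 1) (Iso.refl _)
  obtain ⟨e'⟩ := (GrothLib.Cube.triv_iff _).1 h
  exact (GrothLib.Cube.triv_iff c).2 (GrothLib.GaPic6.nonempty_iso_of_pullback (zeroPt p R).left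
    (c.isInvertible_twist 1) ⟨e ≪≫ e'⟩)

/-- Every extension of `α_p` by the multiplicative group splits on points. -/
theorem exists_factor (hF : Function.Surjective (frobenius R p))
    {B Q : BigSite.Ab fppf (Spec (CommRingCat.of R))} (i : GmSh (Spec (CommRingCat.of R)) ⟶ B) (π : B ⟶ Q)
    (w : i ≫ π = 0) (hC : (ShortComplex.mk i π w).ShortExact) (φ : CGrpSh.pts fppf (Gn p 1 R) ⟶ Q) :
    ∃ ψ : CGrpSh.pts fppf (Gn p 1 R) ⟶ B, ψ ≫ π = φ := by
  let X := Spec (CommRingCat.of R)
  let G : Over X := Gn p 1 R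
  let A := CGrpSh.pts fppf G
  let pt : ∀ {T : Over X}, (T ⟶ G) → A.obj.obj (op T) := fun x => ULift.up.{u + 1} (Additive.ofMul x)
  have hpt : ∀ {T T' : Over X} (h : T' ⟶ T) (x : T ⟶ G), A.obj.map h.op (pt x) = pt (h ≫ x) := fun h x => rfl
  have hptm : ∀ {T : Over X} (x y : T ⟶ G), pt (x * y) = pt x + pt y := fun x y => rfl
  have hpt1 : ∀ {T : Over X}, pt (1 : T ⟶ G) = 0 := rfl
  have hp1 : ∀ {T : Over X} (x : T ⟶ G), fn x ^ p = 0 := fun x => by have := fn_pow x; rwa [pow_one] at this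
  let U₀ : Over X := SpA (R := R) R
  have hz : (zeroPt p R : U₀ ⟶ G) = 1 := fn_injective (by
    rw [fn_one]
    show (Spec.map (CommRingCat.ofHom (eps p (S := R)).toRingHom)).appTop (toSp _ (AlphaPn.x p 1 R)) = 0
    refine (ConcreteCategory.congr_hom (Scheme.ΓSpecIso_inv_naturality
      (CommRingCat.ofHom (eps p (S := R)).toRingHom)) (AlphaPn.x p 1 R)).symm.trans ?_
    show toSp (R := R) R (eps p (AlphaPn.x p 1 R)) = 0
    rw [AlphaPn.lift_x, map_zero])
  -- lift the universal section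
  obtain ⟨t₁, ht₁⟩ := GrothLib.FppfH90Sch6.exists_lift_of_triv i π w hC (φ.hom.app (op G) (pt (𝟙 G))) (fun c h =>
    triv_of_zeroPt p R c (h (zeroPt p R) ⟨0, by
      rw [map_zero, ← NatTrans.naturality_apply, hpt, Category.comp_id, hz, hpt1, map_zero]⟩))
  have hgt₁ : ∀ {T : Over X} (x : T ⟶ G), π.hom.app (op T) (B.obj.map x.op t₁) = φ.hom.app (op T) (pt x) := by
    intro T x
    refine (NatTrans.naturality_apply π.hom x.op t₁).trans ((congrArg _ ht₁).trans ?_)
    refine (NatTrans.naturality_apply φ.hom x.op _).symm.trans (congrArg _ ?_)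
    exact (hpt x (𝟙 G)).trans (congrArg pt (Category.comp_id x))
  have hinj : ∀ (T : Over X), Function.Injective (i.hom.app (op T)) := fun T =>
    GrothLib.FppfH90Sch6.f_injective i π w hC T
  have hker : ∀ (T : Over X) (b : B.obj.obj (op T)), π.hom.app (op T) b = 0 ↔ ∃ a, i.hom.app (op T) a = b := fun T b =>
    GrothLib.FppfH90Sch6.g_eq_zero_iff i π w hC T b
  -- normalise at the origin
  let U₁ : Over X := 𝟙_ (Over X)
  obtain ⟨v₀, hv₀⟩ := (hker U₁ (B.obj.map (1 : U₁ ⟶ G).op t₁)).1 (by rw [hgt₁, hpt1, map_zero])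
  obtain ⟨t, ht⟩ : ∃ t, t = t₁ - B.obj.map (toUnit G).op (i.hom.app (op U₁) v₀) := ⟨_, rfl⟩
  have hgt : ∀ {T : Over X} (x : T ⟶ G), π.hom.app (op T) (B.obj.map x.op t) = φ.hom.app (op T) (pt x) := by
    intro T x
    rw [ht, map_sub, map_sub, hgt₁, GrothLib.AdeqMod20.map_comp_app, comp_toUnit, NatTrans.naturality_apply,
      (hker U₁ _).2 ⟨v₀, rfl⟩, map_zero, sub_zero]
  have ht1 : ∀ {T : Over X}, B.obj.map (1 : T ⟶ G).op t = 0 := by
    intro T
    rw [ht, map_sub, GrothLib.AdeqMod20.map_comp_app, comp_toUnit, hv₀, GrothLib.AdeqMod20.map_comp_app,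
      MonObj.comp_one, sub_self]
  -- the cocycle
  have hc : ∀ (T : Over X) (x y : T ⟶ G), ∃ a, i.hom.app (op T) a =
      B.obj.map (x * y).op t - B.obj.map x.op t - B.obj.map y.op t := fun T x y => (hker T _).1 (by
    rw [map_sub, map_sub, hgt, hgt, hgt, hptm, map_add]
    abel)
  choose c hc using hc
  have hcn : ∀ {T T' : Over X} (g : T' ⟶ T) (x y : T ⟶ G), (GmSh X).obj.map g.op (c T x y) = c T' (g ≫ x) (g ≫ y) := by
    intro T T' g x y
    apply hinj
    rw [NatTrans.naturality_apply, hc, hc, map_sub, map_sub, GrothLib.AdeqMod20.map_comp_app,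
      GrothLib.AdeqMod20.map_comp_app, GrothLib.AdeqMod20.map_comp_app, MonObj.comp_mul]
  let B₂ := A1 p (A1 p R)
  letI : Algebra R B₂ := (ι2 p R).toAlgebra
  let O₂ : Over X := SpA (R := R) B₂
  obtain ⟨u₀, hu₀⟩ := exists_pt (p := p) (n := 1) (T := O₂) (toSp (R := R) B₂ (x₁ p R))
    (by rw [pow_one, ← map_pow, x₁_pow, map_zero])
  obtain ⟨u₁, hu₁⟩ := exists_pt (p := p) (n := 1) (T := O₂) (toSp (R := R) B₂ (y₂ p R))
    (by rw [pow_one, ← map_pow, x_pow_p, map_zero])
  obtain ⟨h, hh⟩ := (toSp_bijective (R := R) B₂).2 (gmVal (c O₂ u₀ u₁))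
  have hev : ∀ (T : Over X) (x y : T ⟶ G),
      gmVal (c T x y) = sub p (sub p (base T) (fn x) (hp1 x)) (fn y) (hp1 y) h := by
    intro T x y
    let θ : B₂ →+* Γ(T.left, ⊤) := sub p (sub p (base T) (fn x) (hp1 x)) (fn y) (hp1 y)
    have hθ : ∀ r, θ (algebraMap R B₂ r) = base T r := fun r =>
      (sub_algebraMap _ _ _ _ _).trans (sub_algebraMap _ _ _ _ _)
    let m : T ⟶ O₂ := mor T θ hθ
    have hx : m ≫ u₀ = x := fn_injective (by
      rw [fn_comp, hu₀]
      exact (fnHom_mor T θ hθ _).trans ((sub_algebraMap _ _ _ _ _).trans (sub_x _ _ _ _)))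
    have hy : m ≫ u₁ = y := fn_injective (by
      rw [fn_comp, hu₁]
      exact (fnHom_mor T θ hθ _).trans (sub_x _ _ _ _))
    show _ = θ h
    rw [← hx, ← hy, ← hcn m, gmVal_map, ← hh]
    exact fnHom_mor T θ hθ h
  have hcone : ∀ (T : Over X) (x : T ⟶ G), c T x 1 = 0 := fun T x => hinj T (by
    rw [hc, map_zero, show x * (1 : T ⟶ G) = x from _root_.mul_one x, sub_self, ht1, sub_zero])
  have hcoc : ∀ (T : Over X) (x y z : T ⟶ G), c T y z + c T x (y * z) = c T (x * y) z + c T x y := fun T x y z =>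
    hinj T (by
      rw [map_add, map_add, hc, hc, hc, hc, _root_.mul_assoc]
      abel)
  have h0 : eps p h = 1 := by
    apply (toSp_bijective (R := R) (A1 p R)).1
    rw [map_one, ← gmVal_zero (U := G), ← hcone G (𝟙 G), hev]
    refine Eq.symm ((sub_congr p rfl fn_one h).trans ((sub_zero_eq p _ h (zero_pow (Fact.out : p.Prime).ne_zero)).trans ?_))
    rw [← fnHom_eq_sub]
    show (𝟙 G : G ⟶ G).left.appTop (toSp (R := R) (A1 p R) (eps p h)) = _
    rw [Over.id_left, Scheme.Hom.id_appTop]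
    rfl
  have hcocAlg : ∀ (B' : Type u) [CommRing B'] [CharP B' p] (χ : R →+* B') (a b d : B') (ha : a ^ p = 0)
      (hb : b ^ p = 0) (hd : d ^ p = 0) (hab : (a + b) ^ p = 0) (hbd : (b + d) ^ p = 0),
      sub p (sub p χ b hb) d hd h * sub p (sub p χ a ha) (b + d) hbd h =
        sub p (sub p χ (a + b) hab) d hd h * sub p (sub p χ a ha) b hb h := by
    intro B' _ _ χ a b d ha hb hd hab hbd
    letI : Algebra R B' := χ.toAlgebra
    let T := SpA (R := R) B'
    obtain ⟨xa, hxa⟩ := exists_pt (p := p) (n := 1) (T := T) (toSp (R := R) B' a) (by rw [pow_one, ← map_pow, ha, map_zero])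
    obtain ⟨xb, hxb⟩ := exists_pt (p := p) (n := 1) (T := T) (toSp (R := R) B' b) (by rw [pow_one, ← map_pow, hb, map_zero])
    obtain ⟨xd, hxd⟩ := exists_pt (p := p) (n := 1) (T := T) (toSp (R := R) B' d) (by rw [pow_one, ← map_pow, hd, map_zero])
    have hval : ∀ (x y : T ⟶ G) (s t : B') (hs : s ^ p = 0) (ht : t ^ p = 0), fn x = toSp (R := R) B' s →
        fn y = toSp (R := R) B' t → gmVal (c T x y) = toSp (R := R) B' (sub p (sub p χ s hs) t ht h) := by
      intro x y s t hs ht hx hy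
      rw [hev, comp_sub]
      refine sub_congr p (RingHom.ext fun u => ?_) hy h
      rw [RingHom.comp_apply, comp_sub]
      exact sub_congr p (RingHom.ext fun r => (toSp_algebraMap (R := R) B' r).symm) hx u
    apply (toSp_bijective (R := R) B').1
    rw [map_mul, map_mul, ← hval xb xd b d hb hd hxb hxd,
      ← hval xa (xb * xd) a (b + d) ha hbd hxa (by rw [fn_mul, hxb, hxd, map_add]),
      ← hval (xa * xb) xd (a + b) d hab hd (by rw [fn_mul, hxa, hxb, map_add]) hxd,
      ← hval xa xb a b ha hb hxa hxb, ← gmVal_add, ← gmVal_add, hcoc]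
  obtain ⟨f, hfu, hf⟩ := exists_split p hF h h0 hcocAlg
  -- the correction
  let v : ∀ {T : Over X}, (T ⟶ G) → (GmSh X).obj.obj (op T) := fun {T} x => gmSec (hfu.map (fnHom x)).unit
  have hv : ∀ {T : Over X} (x : T ⟶ G), gmVal (v x) = fnHom x f := fun x =>
    (gmVal_gmSec _).trans (IsUnit.unit_spec _)
  have hvn : ∀ {T T' : Over X} (g : T' ⟶ T) (x : T ⟶ G), (GmSh X).obj.map g.op (v x) = v (g ≫ x) := by
    intro T T' g x
    apply gmVal_injective
    rw [gmVal_map, hv, hv, fnHom_comp]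
  have hvc : ∀ {T : Over X} (x y : T ⟶ G), v (x * y) = v x + v y + c T x y := by
    intro T x y
    apply gmVal_injective
    let θ : B₂ →+* Γ(T.left, ⊤) := sub p (sub p (base T) (fn x) (hp1 x)) (fn y) (hp1 y)
    have k := congrArg θ hf
    rw [map_mul, map_mul] at k
    rw [gmVal_add, gmVal_add, hev, hv, hv, hv]
    have e1 : θ.comp (algebraMap (A1 p R) B₂) = fnHom x :=
      (RingHom.ext fun u => sub_algebraMap p (sub p (base T) (fn x) (hp1 x)) (fn y) (hp1 y) u).trans (fnHom_eq_sub p R x).symm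
    have hι : θ.comp (ι2 p R) = base T :=
      RingHom.ext fun r => (sub_algebraMap p (sub p (base T) (fn x) (hp1 x)) (fn y) (hp1 y) _).trans (sub_algebraMap p (base T) (fn x) (hp1 x) r)
    have e2 : θ (sub p (ι2 p R) (y₂ p R) (x_pow_p p) f) = fnHom y f := by
      rw [comp_sub, fnHom_eq_sub]
      exact sub_congr p hι (sub_x _ _ _ _) f
    have e3 : θ (sub p (ι2 p R) (x₁ p R + y₂ p R) (x₁_add_y₂_pow p) f) = fnHom (x * y) f := by
      rw [comp_sub, fnHom_eq_sub]
      refine sub_congr p hι ?_ f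
      rw [fn_mul, map_add]
      exact congrArg₂ (· + ·) ((sub_algebraMap _ _ _ _ _).trans (sub_x _ _ _ _)) (sub_x _ _ _ _)
    rw [← e3, ← e2, ← e1]
    exact k
  have hadd : ∀ {T : Over X} (x y : T ⟶ G), B.obj.map (x * y).op t - i.hom.app (op T) (v (x * y)) =
      (B.obj.map x.op t - i.hom.app (op T) (v x)) + (B.obj.map y.op t - i.hom.app (op T) (v y)) := by
    intro T x y
    rw [hvc, map_add, map_add, hc]
    abel
  let ψ : A ⟶ B :=
    ⟨{ app := fun T => ConcreteCategory.ofHom (C := AddCommGrpCat.{u + 1}) (X := A.obj.obj T) (Y := B.obj.obj T)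
          (AddMonoidHom.mk' (fun a => B.obj.map
            ((show ULift.{u + 1} (Additive (unop T ⟶ G)) from a).down.toMul).op t -
              i.hom.app T (v (show ULift.{u + 1} (Additive (unop T ⟶ G)) from a).down.toMul)) fun a b => hadd _ _)
       naturality := fun T T' g => AddCommGrpCat.ext fun a => by
          let x : unop T ⟶ G := (show ULift.{u + 1} (Additive (unop T ⟶ G)) from a).down.toMul
          show B.obj.map (g.unop ≫ x).op t - i.hom.app (op (unop T')) (v (g.unop ≫ x)) =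
            B.obj.map g.unop.op (B.obj.map x.op t - i.hom.app (op (unop T)) (v x))
          rw [map_sub, GrothLib.AdeqMod20.map_comp_app, ← NatTrans.naturality_apply, hvn] }⟩
  refine ⟨ψ, ?_⟩
  refine Sheaf.hom_ext (NatTrans.ext (funext fun T => AddCommGrpCat.ext fun a => ?_))
  let x : unop T ⟶ G := (show ULift.{u + 1} (Additive (unop T ⟶ G)) from a).down.toMul
  show π.hom.app (op (unop T)) (B.obj.map x.op t - i.hom.app (op (unop T)) (v x)) = φ.hom.app (op (unop T)) (pt x)
  rw [map_sub, hgt, (hker _ _).2 ⟨_, rfl⟩, sub_zero]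

end GrothLib.AlphaExt6
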