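import Groth.Agent.Lib.AlphaExt6.Pts
import Groth.Agent.Lib.FppfH90Sch6.Main
import Groth.Prelude.Def_CGrpSh
import Mathlib.RingTheory.Flat.Basic
import Mathlib.RingTheory.FinitePresentation

/-!
# The sequence `α_p → α_{p^(n+1)} → α_{p^n}`
-/

set_option autoImplicit false
set_option backward.isDefEq.respectTransparency false
set_option backward.isDefEq.respectTransparency.types false
set_option linter.all false
set_option maxHeartbeats 1000000
set_option synthInstance.maxHeartbeats 200000

universe u

open CategoryTheory CategoryTheory.Limits AlgebraicGeometry Opposite MonoidalCategory CartesianMonoidalCategory MonObj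

noncomputable section

namespace GrothLib.AlphaExt6

local notation "fppf" => Scheme.fppfPrecoverage

section Frob

variable (p n : ℕ) (R : Type u) [CommRing R]

/-- `R[x]/(x^(p^(n+1)))` is a monogenic free algebra over its subalgebra of `p`-th powers. -/
theorem frobAlg_flat_fp (hp : 0 < p) :
    (AlphaPn.frobAlg p n R).toRingHom.Flat ∧ (AlphaPn.frobAlg p n R).toRingHom.FinitePresentation ∧
      Function.Surjective (PrimeSpectrum.comap (AlphaPn.frobAlg p n R).toRingHom) := by
  let Am := AlphaPn.A p n R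
  let P : Polynomial Am := Polynomial.X ^ p - Polynomial.C (AlphaPn.x p n R)
  have hP : P.Monic := Polynomial.monic_X_pow_sub_C _ hp.ne'
  let M := AdjoinRoot P
  letI : Algebra Am (AlphaPn.A p (n + 1) R) := (AlphaPn.frobAlg p n R).toRingHom.toAlgebra
  letI : Algebra R M := ((algebraMap Am M).comp (algebraMap R Am)).toAlgebra
  have hroot : AdjoinRoot.root P ^ p = AdjoinRoot.of P (AlphaPn.x p n R) := by
    have h := AdjoinRoot.eval₂_root P
    rwa [Polynomial.eval₂_sub, Polynomial.eval₂_X_pow, Polynomial.eval₂_C, sub_eq_zero] at h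
  let back : AlphaPn.A p (n + 1) R →+* M := AdjoinRoot.lift (algebraMap R M) (AdjoinRoot.root P) (by
    rw [Polynomial.eval₂_X_pow, pow_succ', pow_mul, hroot, ← map_pow, AlphaPn.x_pow, map_zero])
  let fwd : M →+* AlphaPn.A p (n + 1) R := AdjoinRoot.lift (AlphaPn.frobAlg p n R).toRingHom (AlphaPn.x p (n + 1) R) (by
    rw [Polynomial.eval₂_sub, Polynomial.eval₂_X_pow, Polynomial.eval₂_C]
    exact sub_eq_zero.2 (AlphaPn.frobAlg_x p n R).symm)
  have hbR : ∀ r, back (algebraMap R _ r) = algebraMap R M r := fun r =>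
    (congrArg back (AlgHom.commutes (AlphaPn.mk p (n + 1) R) r).symm).trans
      ((AdjoinRoot.lift_mk _ _).trans (Polynomial.eval₂_C _ _))
  have hbA : ∀ b, back (AlphaPn.frobAlg p n R b) = AdjoinRoot.of P b := by
    intro b
    obtain ⟨Q, rfl⟩ := AlphaPn.mk_surjective p n R b
    refine congrFun (congrArg DFunLike.coe (Polynomial.ringHom_ext
      (f := back.comp ((AlphaPn.frobAlg p n R).toRingHom.comp (AlphaPn.mk p n R).toRingHom))
      (g := (AdjoinRoot.of P).comp (AlphaPn.mk p n R).toRingHom) (fun r => ?_) ?_)) Q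
    · show back (AlphaPn.frobAlg p n R (AlphaPn.mk p n R (Polynomial.C r))) = AdjoinRoot.of P (AlphaPn.mk p n R (Polynomial.C r))
      rw [Polynomial.C_eq_algebraMap, AlgHom.commutes, AlgHom.commutes, hbR]
      rfl
    · show back (AlphaPn.frobAlg p n R (AlphaPn.x p n R)) = AdjoinRoot.of P (AlphaPn.x p n R)
      rw [AlphaPn.frobAlg_x, map_pow]
      exact (congrArg (· ^ p) (AdjoinRoot.lift_root _)).trans hroot
  have hbx : back (AlphaPn.x p (n + 1) R) = AdjoinRoot.root P := AdjoinRoot.lift_root _
  have h1 : ∀ m, back (fwd m) = m := by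
    intro m
    obtain ⟨Q, rfl⟩ := AdjoinRoot.mk_surjective m
    refine congrFun (congrArg DFunLike.coe (Polynomial.ringHom_ext
      (f := back.comp (fwd.comp (AdjoinRoot.mk P))) (g := AdjoinRoot.mk P) (fun b => ?_) ?_)) Q
    · show back (fwd (AdjoinRoot.mk P (Polynomial.C b))) = AdjoinRoot.mk P (Polynomial.C b)
      rw [AdjoinRoot.mk_C]
      exact (congrArg back (AdjoinRoot.lift_of _)).trans (hbA b)
    · show back (fwd (AdjoinRoot.mk P Polynomial.X)) = AdjoinRoot.mk P Polynomial.X
      rw [AdjoinRoot.mk_X]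
      exact (congrArg back (AdjoinRoot.lift_root _)).trans hbx
  have h2 : ∀ u, fwd (back u) = u := by
    intro u
    obtain ⟨Q, rfl⟩ := AlphaPn.mk_surjective p (n + 1) R u
    refine congrFun (congrArg DFunLike.coe (Polynomial.ringHom_ext
      (f := fwd.comp (back.comp (AlphaPn.mk p (n + 1) R).toRingHom)) (g := (AlphaPn.mk p (n + 1) R).toRingHom)
      (fun r => ?_) ?_)) Q
    · show fwd (back (AlphaPn.mk p (n + 1) R (Polynomial.C r))) = AlphaPn.mk p (n + 1) R (Polynomial.C r)
      rw [Polynomial.C_eq_algebraMap, AlgHom.commutes, hbR]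
      exact (AdjoinRoot.lift_of _).trans (AlgHom.commutes _ r)
    · show fwd (back (AlphaPn.x p (n + 1) R)) = AlphaPn.x p (n + 1) R
      rw [hbx]
      exact AdjoinRoot.lift_root _
  let e : M ≃ₐ[Am] AlphaPn.A p (n + 1) R :=
    AlgEquiv.ofBijective { fwd with commutes' := fun b => AdjoinRoot.lift_of _ }
      ⟨Function.LeftInverse.injective h1, Function.RightInverse.surjective h2⟩
  haveI : Module.Free Am M := hP.free_adjoinRoot
  haveI : Module.Finite Am M := hP.finite_adjoinRoot
  haveI : Module.Free Am (AlphaPn.A p (n + 1) R) := Module.Free.of_equiv e.toLinearEquiv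
  haveI : Module.Finite Am (AlphaPn.A p (n + 1) R) := Module.Finite.equiv e.toLinearEquiv
  refine ⟨?_, ?_, fun q => ?_⟩
  · show Module.Flat Am (AlphaPn.A p (n + 1) R)
    infer_instance
  · show Algebra.FinitePresentation Am (AlphaPn.A p (n + 1) R)
    haveI : Algebra.FinitePresentation Am M := inferInstanceAs (Algebra.FinitePresentation Am (AdjoinRoot P))
    exact Algebra.FinitePresentation.equiv e
  · rcases subsingleton_or_nontrivial Am with hs | hs
    · exact absurd (Subsingleton.elim (1 : Am) 0 ▸ q.asIdeal.zero_mem) q.isPrime.one_notMem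
    · haveI : Nontrivial (AlphaPn.A p (n + 1) R) := by
        haveI : Nontrivial R := (algebraMap R Am).domain_nontrivial
        exact (AlphaPn.lift p (n + 1) R (0 : R) (zero_pow (pow_ne_zero _ hp.ne'))).toRingHom.domain_nontrivial
      exact PrimeSpectrum.comap_surjective_of_faithfullyFlat q

end Frob

variable (p : ℕ) [Fact p.Prime] (R : Type u) [CommRing R] [CharP R p] (n : ℕ)

theorem fn_add_pow {T : Over (Spec (CommRingCat.of R))} (a b : Γ(T.left, ⊤)) : (a + b) ^ p = a ^ p + b ^ p := by
  letI : Algebra R Γ(T.left, ⊤) := (base T).toAlgebra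
  simpa using AlphaPn.add_pow_prime_pow p 1 R (Commute.all a b)

/-- The inclusion of `α_p`. -/
def inclHom : Gn p 1 R ⟶ Gn p (n + 1) R :=
  (Spec.map (CommRingCat.ofHom (AlphaPn.restrictAlg p (n + 1) R (Nat.le_add_left 1 n)).toRingHom)).asOver _

/-- The Frobenius. -/
def frobHom : Gn p (n + 1) R ⟶ Gn p n R :=
  (Spec.map (CommRingCat.ofHom (AlphaPn.frobAlg p n R).toRingHom)).asOver _

theorem fn_inclHom {T : Over (Spec (CommRingCat.of R))} (x : T ⟶ Gn p 1 R) : fn (x ≫ inclHom p R n) = fn x := by
  rw [fn_comp]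
  refine (congrArg x.left.appTop (ConcreteCategory.congr_hom (Scheme.ΓSpecIso_inv_naturality (CommRingCat.ofHom
    (AlphaPn.restrictAlg p (n + 1) R (Nat.le_add_left 1 n)).toRingHom)) (AlphaPn.x p (n + 1) R)).symm).trans ?_
  exact congrArg (fun z => x.left.appTop (toSp (R := R) _ z)) (AlphaPn.restrictAlg_x p (n + 1) R (Nat.le_add_left 1 n))

theorem fn_frobHom {T : Over (Spec (CommRingCat.of R))} (x : T ⟶ Gn p (n + 1) R) :
    fn (x ≫ frobHom p R n) = fn x ^ p := by
  rw [fn_comp]
  refine (congrArg x.left.appTop (ConcreteCategory.congr_hom (Scheme.ΓSpecIso_inv_naturality (CommRingCat.ofHom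
    (AlphaPn.frobAlg p n R).toRingHom)) (AlphaPn.x p n R)).symm).trans ?_
  exact (congrArg (fun z => x.left.appTop (toSp (R := R) _ z)) (AlphaPn.frobAlg_x _ _ _)).trans
    (map_pow (fnHom x) _ _)

instance isMonHom_inclHom : IsMonHom (inclHom p R n) where
  one_hom := fn_injective (by rw [fn_inclHom, MonObj.one_eq_one, MonObj.one_eq_one, fn_one, fn_one])
  mul_hom := fn_injective (by
    rw [fn_inclHom, MonObj.mul_eq_mul, MonObj.mul_eq_mul, MonObj.comp_mul, fn_mul, fn_mul, tensorHom_fst,
      tensorHom_snd, fn_inclHom, fn_inclHom])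

instance isMonHom_frobHom : IsMonHom (frobHom p R n) where
  one_hom := fn_injective (by
    rw [fn_frobHom, MonObj.one_eq_one, MonObj.one_eq_one, fn_one, fn_one, zero_pow (Fact.out : p.Prime).ne_zero])
  mul_hom := fn_injective (by
    rw [fn_frobHom, MonObj.mul_eq_mul, MonObj.mul_eq_mul, MonObj.comp_mul, fn_mul, fn_mul, tensorHom_fst,
      tensorHom_snd, fn_frobHom, fn_frobHom, fn_add_pow p R])

theorem comp_eq_one : inclHom p R n ≫ frobHom p R n = 1 := fn_injective (by
  rw [fn_frobHom, fn_one, ← Category.id_comp (inclHom p R n), fn_inclHom]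
  have := fn_pow (𝟙 (Gn p 1 R))
  rwa [pow_one] at this)

/-- The Frobenius sequence is short exact. -/
theorem seq_shortExact :
    (CGrpSh.seq fppf (inclHom p R n) (frobHom p R n) (comp_eq_one p R n)).ShortExact := by
  set S := CGrpSh.seq fppf (inclHom p R n) (frobHom p R n) (comp_eq_one p R n)
  let X := Spec (CommRingCat.of R)
  have hinj : ∀ {T : Over X} {x y : T ⟶ Gn p 1 R}, x ≫ inclHom p R n = y ≫ inclHom p R n → x = y := fun {T x y} h =>
    fn_injective (by rw [← fn_inclHom p R n x, h, fn_inclHom])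
  have hinjS : ∀ T, Function.Injective (S.f.hom.app T) := fun T a b h =>
    ULift.ext _ _ (congrArg Additive.ofMul (hinj (congrArg (fun z => Additive.toMul (ULift.down z)) h)))
  haveI hm : Mono S.f := by
    haveI : ∀ T, Mono (S.f.hom.app T) := fun T => (AddCommGrpCat.mono_iff_injective _).2 (hinjS T)
    exact (sheafToPresheaf _ _).mono_of_mono_map (NatTrans.mono_of_mono_app S.f.hom)
  haveI : Sheaf.IsLocallySurjective S.g := ⟨fun {T} s => by
    let y : T ⟶ Gn p n R := (show ULift.{u + 1} (Additive (T ⟶ Gn p n R)) from s).down.toMul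
    obtain ⟨hfl, hfp, hsu⟩ := frobAlg_flat_fp p n R (Fact.out : p.Prime).pos
    let F : Spec (CommRingCat.of (AlphaPn.A p (n + 1) R)) ⟶ Spec (CommRingCat.of (AlphaPn.A p n R)) :=
      Spec.map (CommRingCat.ofHom (AlphaPn.frobAlg p n R).toRingHom)
    haveI : Flat F := (HasRingHomProperty.Spec_iff (P := @Flat)).2 hfl
    haveI : LocallyOfFinitePresentation F := (HasRingHomProperty.Spec_iff (P := @LocallyOfFinitePresentation)).2 hfp
    haveI : Surjective F := ⟨hsu⟩
    let W : Over X := Over.mk (pullback.snd F y.left ≫ T.hom)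
    let g : W ⟶ T := Over.homMk (pullback.snd F y.left) rfl
    haveI : Flat g.left := inferInstanceAs (Flat (pullback.snd F y.left))
    haveI : LocallyOfFinitePresentation g.left := inferInstanceAs (LocallyOfFinitePresentation (pullback.snd F y.left))
    haveI : Surjective g.left := inferInstanceAs (Surjective (pullback.snd F y.left))
    refine GrothendieckTopology.superset_covering _ ?_ (FppfH90Sch6.sieve_mem_single g)
    refine (Sieve.generate_le_iff _ _).2 ?_
    rintro Z _ ⟨⟩
    let l : W ⟶ Gn p (n + 1) R := Over.homMk (pullback.fst F y.left) (by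
      show pullback.fst F y.left ≫ (Gn p (n + 1) R).hom = pullback.snd F y.left ≫ T.hom
      rw [show (Gn p (n + 1) R).hom = F ≫ (Gn p n R).hom from (Over.w (frobHom p R n)).symm,
        pullback.condition_assoc, Over.w y])
    exact ⟨(ULift.up.{u + 1} (Additive.ofMul l) :),
      ULift.ext _ _ (congrArg Additive.ofMul (Over.OverMorphism.ext (pullback.condition (f := F) (g := y.left))))⟩⟩
  haveI : Epi S.g := (Sheaf.isLocallySurjective_iff_epi' (φ := S.g)).1 inferInstance
  have hker : ∀ T (z : S.X₂.obj.obj (op T)), S.g.hom.app (op T) z = 0 → ∃ a, S.f.hom.app (op T) a = z := by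
    intro T z h
    let x : T ⟶ Gn p (n + 1) R := (show ULift.{u + 1} (Additive (T ⟶ Gn p (n + 1) R)) from z).down.toMul
    have h0 : x ≫ frobHom p R n = 1 := congrArg (fun w => Additive.toMul (ULift.down w)) h
    obtain ⟨a, ha⟩ := exists_pt (p := p) (n := 1) (T := T) (fn x) (by rw [pow_one, ← fn_frobHom p R n x, h0, fn_one])
    exact ⟨(ULift.up.{u + 1} (Additive.ofMul a) :), ULift.ext _ _ (congrArg Additive.ofMul
      (fn_injective ((fn_inclHom p R n a).trans ha)))⟩
  refine { exact := ShortComplex.exact_of_f_is_kernel _ ?_ }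
  refine KernelFork.IsLimit.ofι' S.f S.zero fun {Z} k hk => ?_
  have h : ∀ T (z : Z.obj.obj T), ∃ a, S.f.hom.app T a = k.hom.app T z := fun T z =>
    hker (unop T) _ (ConcreteCategory.congr_hom (congrArg (fun m : Z ⟶ S.X₃ => m.hom.app T) hk) z)
  choose a ha using h
  refine ⟨⟨{ app := fun T => AddCommGrpCat.ofHom (AddMonoidHom.mk' (a T) fun z z' => hinjS T (by
              rw [map_add, ha, ha, ha, map_add]))
             naturality := fun T T' f => AddCommGrpCat.ext fun z => hinjS T' (by
              show S.f.hom.app T' (a T' (Z.obj.map f z)) = S.f.hom.app T' (S.X₁.obj.map f (a T z))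
              rw [ha, NatTrans.naturality_apply S.f.hom f, ha, NatTrans.naturality_apply k.hom f]) }⟩,
    Sheaf.hom_ext (NatTrans.ext (funext fun T => AddCommGrpCat.ext fun z => ha T z))⟩

end GrothLib.AlphaExt6
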