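import Groth.Agent.Lib.AlphaExt6.Alg

/-!
# Substitutions in truncated polynomial rings
-/

set_option autoImplicit false
set_option linter.all false
set_option synthInstance.maxHeartbeats 200000

universe u

open Polynomial

noncomputable section

namespace GrothLib.AlphaExt6

variable (p : ℕ) [hp : Fact p.Prime] {S : Type u} [CommRing S] {B : Type u} [CommRing B]

/-- Substitution of an element for the coordinate. -/
def sub (φ : S →+* B) (b : B) (hb : b ^ p = 0) : A1 p S →+* B :=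
  AdjoinRoot.lift φ b (by rw [eval₂_X_pow, pow_one]; exact hb)

omit hp in
theorem sub_mk (φ : S →+* B) (b : B) (hb : b ^ p = 0) (P : S[X]) :
    sub p φ b hb (AlphaPn.mk p 1 S P) = P.eval₂ φ b := AdjoinRoot.lift_mk _ P

omit hp in
theorem sub_algebraMap (φ : S →+* B) (b : B) (hb : b ^ p = 0) (s : S) :
    sub p φ b hb (algebraMap S (A1 p S) s) = φ s := by
  rw [← AlgHom.commutes (AlphaPn.mk p 1 S) s, sub_mk, ← Polynomial.C_eq_algebraMap, eval₂_C]

omit hp in
theorem sub_x (φ : S →+* B) (b : B) (hb : b ^ p = 0) : sub p φ b hb (AlphaPn.x p 1 S) = b := by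
  rw [← AlphaPn.mk_X, sub_mk, eval₂_X]

omit hp in
theorem hom_ext {f g : A1 p S →+* B} (h : ∀ s, f (algebraMap S (A1 p S) s) = g (algebraMap S (A1 p S) s))
    (hx : f (AlphaPn.x p 1 S) = g (AlphaPn.x p 1 S)) : f = g := by
  refine RingHom.ext fun u => ?_
  obtain ⟨P, rfl⟩ := AlphaPn.mk_surjective p 1 S u
  refine congrFun (congrArg DFunLike.coe (Polynomial.ringHom_ext
    (f := f.comp (AlphaPn.mk p 1 S).toRingHom) (g := g.comp (AlphaPn.mk p 1 S).toRingHom) (fun r => ?_) hx)) P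
  show f (AlphaPn.mk p 1 S (C r)) = g (AlphaPn.mk p 1 S (C r))
  rw [Polynomial.C_eq_algebraMap, AlgHom.commutes]
  exact h r

variable [CharP B p]

theorem D_sub (ψ : S →+* B) [CharP S p] (v : A1 p B) (hv : v ^ p = 0) (u : A1 p S) :
    D p (sub p ((algebraMap B (A1 p B)).comp ψ) v hv u) =
      sub p ((algebraMap B (A1 p B)).comp ψ) v hv (D p u) * D p v := by
  obtain ⟨P, rfl⟩ := AlphaPn.mk_surjective p 1 S u
  rw [sub_mk, D_mk, sub_mk, D_eval₂]

omit [CharP B p] in
theorem eps_sub (ψ : S →+* B) (v : A1 p B) (hv : v ^ p = 0) (u : A1 p S) :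
    eps p (sub p ((algebraMap B (A1 p B)).comp ψ) v hv u) =
      sub p ψ (eps p v) (by rw [← map_pow, hv, map_zero]) u := by
  refine RingHom.congr_fun (hom_ext p (f := (eps p (S := B)).toRingHom.comp
    (sub p ((algebraMap B (A1 p B)).comp ψ) v hv)) (fun s => ?_) ?_) u
  · show eps p (sub p _ v hv (algebraMap S (A1 p S) s)) = _
    rw [sub_algebraMap, sub_algebraMap]
    exact AlgHom.commutes _ (ψ s)
  · show eps p (sub p _ v hv (AlphaPn.x p 1 S)) = _
    rw [sub_x, sub_x]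

omit [CharP B p] in
theorem sub_zero_eq (ψ : S →+* B) (u : A1 p S) (h0 : (0 : B) ^ p = 0) :
    sub p ψ 0 h0 u = ψ (eps p u) := by
  refine RingHom.congr_fun (hom_ext p (g := ψ.comp (eps p (S := S)).toRingHom) (fun s => ?_) ?_) u
  · rw [sub_algebraMap]
    exact (congrArg ψ (AlgHom.commutes (eps p (S := S)) s)).symm
  · rw [sub_x]
    exact ((congrArg ψ (AlphaPn.lift_x _ _)).trans (map_zero ψ)).symm

omit [CharP B p] in
theorem comp_sub {B' : Type u} [CommRing B'] (g : B →+* B') (φ : S →+* B) (b : B) (hb : b ^ p = 0) (u : A1 p S) :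
    g (sub p φ b hb u) = sub p (g.comp φ) (g b) (by rw [← map_pow, hb, map_zero]) u := by
  refine RingHom.congr_fun (hom_ext p (f := g.comp (sub p φ b hb)) (fun s => ?_) ?_) u
  · rw [RingHom.comp_apply, sub_algebraMap, sub_algebraMap]
    rfl
  · rw [RingHom.comp_apply, sub_x, sub_x]

omit hp [CharP B p] in
theorem sub_congr {φ φ' : S →+* B} {b b' : B} {hb : b ^ p = 0} {hb' : b' ^ p = 0} (h1 : φ = φ') (h2 : b = b')
    (u : A1 p S) : sub p φ b hb u = sub p φ' b' hb' u := by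
  subst h1 h2; rfl

omit hp [CharP B p] in
theorem sub_self_eq (u : A1 p S) (h : AlphaPn.x p 1 S ^ p = 0) :
    sub p (algebraMap S (A1 p S)) (AlphaPn.x p 1 S) h u = u :=
  RingHom.congr_fun (hom_ext p (g := RingHom.id _) (fun s => sub_algebraMap _ _ _ _ _) (sub_x _ _ _ _)) u

omit hp [CharP B p] in
theorem x_pow_p : AlphaPn.x p 1 S ^ p = 0 := by simpa using AlphaPn.x_pow p 1 S

omit [CharP B p] in
/-- A unit whose value at the origin is one. -/
theorem isUnit_of_eps (f : A1 p S) (h : eps p f = 1) : IsUnit f := by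
  obtain ⟨r, hr⟩ := exists_eq_C_add_X_mul p f
  rw [h, map_one] at hr
  rw [hr]
  exact IsNilpotent.isUnit_one_add ⟨p, by rw [mul_pow, x_pow_p, zero_mul]⟩

section Cocycle

variable {R : Type u} [CommRing R] [CharP R p]

/-- The structure map of the two-variable truncated ring. -/
abbrev ι2 (p : ℕ) (R : Type u) [CommRing R] : R →+* A1 p (A1 p R) :=
  (algebraMap (A1 p R) (A1 p (A1 p R))).comp (algebraMap R (A1 p R))

/-- The first coordinate. -/
abbrev x₁ (p : ℕ) (R : Type u) [CommRing R] : A1 p (A1 p R) :=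
  algebraMap (A1 p R) (A1 p (A1 p R)) (AlphaPn.x p 1 R)

/-- The second coordinate. -/
abbrev y₂ (p : ℕ) (R : Type u) [CommRing R] : A1 p (A1 p R) := AlphaPn.x p 1 (A1 p R)

omit hp [CharP R p] in
theorem x₁_pow : x₁ p R ^ p = 0 := by rw [← map_pow, x_pow_p, map_zero]

theorem x₁_add_y₂_pow : (x₁ p R + y₂ p R) ^ p = 0 := by
  haveI : ExpChar (A1 p (A1 p R)) p := ExpChar.prime hp.out
  rw [add_pow_expChar, x₁_pow, x_pow_p, add_zero]

/-- A cocycle on two copies of `α_p` is a coboundary when Frobenius is surjective. -/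
theorem exists_split (hF : Function.Surjective (frobenius R p)) (h : A1 p (A1 p R)) (h0 : eps p h = 1)
    (hcoc : ∀ (B : Type u) [CommRing B] [CharP B p] (φ : R →+* B) (a b c : B) (ha : a ^ p = 0) (hb : b ^ p = 0)
      (hc : c ^ p = 0) (hab : (a + b) ^ p = 0) (hbc : (b + c) ^ p = 0),
      sub p (sub p φ b hb) c hc h * sub p (sub p φ a ha) (b + c) hbc h =
        sub p (sub p φ (a + b) hab) c hc h * sub p (sub p φ a ha) b hb h) :
    ∃ f : A1 p R, IsUnit f ∧ sub p (ι2 p R) (x₁ p R + y₂ p R) (x₁_add_y₂_pow p) f =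
      algebraMap (A1 p R) (A1 p (A1 p R)) f * sub p (ι2 p R) (y₂ p R) (x_pow_p p) f * h := by
  haveI : ExpChar (A1 p (A1 p R)) p := ExpChar.prime hp.out
  haveI : ExpChar (A1 p (A1 p (A1 p R))) p := ExpChar.prime hp.out
  let B2 := A1 p (A1 p R)
  let i3 := algebraMap B2 (A1 p B2)
  let z : A1 p B2 := AlphaPn.x p 1 B2
  let η := eps p (D p h)
  let ψy : A1 p R →+* B2 := sub p (ι2 p R) (y₂ p R) (x_pow_p p)
  let ψs : A1 p R →+* B2 := sub p (ι2 p R) (x₁ p R + y₂ p R) (x₁_add_y₂_pow p)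
  let ψx : A1 p R →+* B2 := algebraMap (A1 p R) B2
  have hi : ∀ {w : B2}, w ^ p = 0 → i3 w ^ p = 0 := fun hw => by rw [← map_pow, hw, map_zero]
  have hphi : ∀ (w : B2) (hw : w ^ p = 0), sub p (i3.comp (ι2 p R)) (i3 w) (hi hw) = i3.comp (sub p (ι2 p R) w hw) :=
    fun w hw => RingHom.ext fun u => (comp_sub p i3 _ _ hw u).symm
  have hx : sub p (ι2 p R) (x₁ p R) (x₁_pow p) = ψx :=
    hom_ext p (fun s => sub_algebraMap _ _ _ _ _) (sub_x _ _ _ _)
  have hsum : (i3 (y₂ p R) + z) ^ p = 0 := by rw [add_pow_expChar, hi (x_pow_p p), x_pow_p, add_zero]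
  have key := hcoc (A1 p B2) (i3.comp (ι2 p R)) (i3 (x₁ p R)) (i3 (y₂ p R)) z (hi (x₁_pow p)) (hi (x_pow_p p))
    (x_pow_p p) (by rw [← map_add]; exact hi (x₁_add_y₂_pow p)) hsum
  have hab : sub p (i3.comp (ι2 p R)) (i3 (x₁ p R) + i3 (y₂ p R)) (by rw [← map_add]; exact hi (x₁_add_y₂_pow p)) =
      i3.comp ψs := RingHom.ext fun u => (sub_congr p rfl (map_add i3 _ _).symm u).trans
        (RingHom.congr_fun (hphi _ (x₁_add_y₂_pow p)) u)
  rw [hphi _ (x_pow_p p), hphi _ (x₁_pow p), hx, hab] at key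
  change sub p (i3.comp ψy) z _ h * sub p (i3.comp ψx) (i3 (y₂ p R) + z) _ h =
    sub p (i3.comp ψs) z _ h * sub p (i3.comp ψx) (i3 (y₂ p R)) _ h at key
  have k2 := congrArg (fun w => eps p (D p w)) key
  simp only [D_mul, map_add, map_mul, D_sub, eps_sub, D_x, D_add, D_algebraMap, z, i3, zero_add, mul_one, mul_zero,
    add_zero, map_zero, map_one] at k2
  have he : ∀ {ψ : A1 p R →+* B2} (w : B2) (hw : w = 0) (hw' : w ^ p = 0) (u : B2),
      sub p ψ w hw' u = ψ (eps p u) := fun w hw hw' u =>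
    (sub_congr p rfl hw u).trans (sub_zero_eq p _ u (zero_pow hp.out.ne_zero))
  have hy : ∀ (w : B2) (hw : w = y₂ p R) (hw' : w ^ p = 0) (u : B2), sub p ψx w hw' u = u := fun w hw hw' u =>
    (sub_congr p rfl hw u).trans (sub_self_eq p u (x_pow_p p))
  have e0 : eps p (AlphaPn.x p 1 B2) = 0 := AlphaPn.lift_x _ _
  have e1 : eps p (algebraMap B2 (A1 p B2) (y₂ p R)) = y₂ p R := AlgHom.commutes _ _
  simp only [he _ e0, hy _ e1, hy _ (show eps p (algebraMap B2 (A1 p B2) (y₂ p R)) + eps p (AlphaPn.x p 1 B2) = y₂ p R by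
    rw [e0, e1, add_zero]), h0, map_one, one_mul] at k2
  change ψy η * h + D p h = ψs η * h at k2
  obtain ⟨a, f, hf1, hf⟩ := exists_sol p hF η
  refine ⟨f, isUnit_of_eps p f hf1, ?_⟩
  rw [← sub_eq_zero]
  have hD1 : D p (ψs f) = ψs (D p f) := by
    refine (D_sub p (algebraMap R (A1 p R)) _ _ f).trans ?_
    rw [D_add, D_algebraMap, D_x, zero_add, mul_one]
  have hD2 : D p (ψy f) = ψy (D p f) := by
    refine (D_sub p (algebraMap R (A1 p R)) _ _ f).trans ?_
    rw [D_x, mul_one]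
  refine sol_eq_zero p (ψs η + ι2 p R a) _ ?_ ?_
  · rw [map_sub, map_mul, map_mul, h0, mul_one, eps_sub, eps_sub, AlgHom.commutes]
    have r1 : sub p (algebraMap R (A1 p R)) (eps p (x₁ p R + y₂ p R)) (by
        rw [← map_pow, x₁_add_y₂_pow, map_zero]) f = f :=
      (sub_congr p rfl (by rw [map_add, AlgHom.commutes, AlphaPn.lift_x, add_zero]; rfl) f).trans
        (sub_self_eq p f (x_pow_p p))
    have r2 : sub p (algebraMap R (A1 p R)) (eps p (y₂ p R)) (by rw [← map_pow, x_pow_p, map_zero]) f = 1 :=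
      (sub_congr p rfl (AlphaPn.lift_x _ _) f).trans ((sub_zero_eq p _ f (zero_pow hp.out.ne_zero)).trans (by
        rw [hf1, map_one]))
    rw [r1, r2]
    simp
  · have e := D_add p (ψs f - algebraMap (A1 p R) B2 f * ψy f * h) (algebraMap (A1 p R) B2 f * ψy f * h)
    rw [sub_add_cancel, D_mul, D_mul, D_algebraMap, hD1, hD2, hf, map_mul, map_mul, map_add, map_add] at e
    have c1 : ψs (algebraMap R (A1 p R) a) = ι2 p R a := sub_algebraMap _ _ _ _ _
    have c2 : ψy (algebraMap R (A1 p R) a) = ι2 p R a := sub_algebraMap _ _ _ _ _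
    rw [c1, c2] at e
    linear_combination (-1 : B2) * e - algebraMap (A1 p R) B2 f * ψy f * k2

end Cocycle

end GrothLib.AlphaExt6
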